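import Cfsg.Agent.H174.CC.Heis
import Cfsg.Agent.H5.Ru.Row
import Cfsg.Agent.H393.Iso.Ru
import Cfsg.Agent.H978.RadRu
import Cfsg.Agent.SporadicB.RuTits

/-!
# S3828: the row of the Rudvalis group (helper174, for helper162)

p = 2: the 2-local overgroups of a Sylow 2-subgroup lie in `N(Z)` or `C(z)`; p = 3, 13: `²F₄(2)'`; p = 5: commutators of
explicit elements; p = 7: `N(Z)`; p = 29: two classes of involutions.
-/

set_option autoImplicit false
set_option maxRecDepth 100000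
set_option exponentiation.threshold 5000

namespace Cfsg.Agent.H174.CC.Ru

open Subgroup Cfsg Cfsg.Agent.H162.CCR Cfsg.Agent.Lib.Cores Cfsg.Agent.H859 Cfsg.Agent.H174.CC
open Cfsg.Agent.SporadicB Cfsg.Agent.SporadicB.RuOrder Cfsg.Agent.SporRec.TCUpperCert Cfsg.Agent.SporRec.R3.Kernel
  Cfsg.Agent.RuD.Letters Cfsg.Agent.H978.RadRu

/-! ### The prime 5 -/

/-- the commutator word -/
noncomputable def cw (u ui v vi : List ℕ) : List ℕ := ui ++ ((v ++ (ui ++ vi)) ++ (u ++ (v ++ (u ++ vi))))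

/-- the certificate -/
noncomputable def chkC (b : ℕ) (u ui v vi : List ℕ) (n : ℕ) : Bool :=
  and (and (Nat.beq (Nat.gcd 5 n) 1) (and (Nat.ble (Nat.succ b) 4060) (not (Nat.beq (evalK (cw u ui v vi) b) b))))
    (chkRel [v ++ vi, u ++ ui, rep n (cw u ui v vi)])

theorem not_mem_of_chk {C : Set RuOrder.H} (hC : CC 5 C) {b : ℕ} {u ui v vi : List ℕ} {n : ℕ}
    (h : chkC b u ui v vi n = true) : (wprod ml u : RuOrder.H) ∉ C := by
  unfold chkC at h
  rw [Bool.and_eq_true, Bool.and_eq_true, Bool.and_eq_true] at h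
  obtain ⟨⟨hn, hb, h0⟩, hr⟩ := h
  have hr' := rel_of_chk hr
  have r1 := hr' (v ++ vi) (by simp)
  have r2 := hr' (u ++ ui) (by simp)
  have r3 := hr' (rep n (cw u ui v vi)) (by simp)
  have h1 := ne_one_of (Nat.le_of_ble_eq_true hb) (by simpa using h0)
  rw [wprod_rep] at r3
  rw [wprod_append] at r1 r2
  have hvi : wprod ml vi = (wprod ml v)⁻¹ := (inv_eq_of_mul_eq_one_right r1).symm
  have hui : wprod ml ui = (wprod ml u)⁻¹ := (inv_eq_of_mul_eq_one_right r2).symm
  have e : wprod ml (cw u ui v vi) = (wprod ml u)⁻¹ * (wprod ml v * wprod ml u * (wprod ml v)⁻¹)⁻¹ * wprod ml u *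
      (wprod ml v * wprod ml u * (wprod ml v)⁻¹) := by
    simp only [cw, wprod_append, hvi, hui]
    group
  rw [e] at r3 h1
  exact not_mem_of_comm hC r3 h1 (Nat.eq_of_beq_eq_true hn)

def wai : List ℕ := [0, 5, 0, 3, 6, 5, 8, 3, 5, 7, 6, 4, 3, 0, 5, 7]
def wbi : List ℕ := [0, 3, 1, 4, 0, 5, 7, 5, 7, 4, 5, 7, 6, 7, 5, 1]
def wci : List ℕ := [6, 7, 6, 3, 5, 4]

theorem rel : Heis.Rel 5 (wprod ml wb : RuOrder.H) (wprod ml wa) (wprod ml wc) := by
  have hr := rel_of_chk chk_rels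
  have r1 := hr (rep 5 wa) (by simp)
  have r2 := hr (rep 5 wb) (by simp)
  have r3 := hr (rep 5 wc) (by simp)
  have e1 : wprod ml (wa ++ wc) = wprod ml (wc ++ wa) := eq_of_chkEqW (by decide +kernel)
  have e2 : wprod ml (wb ++ wc) = wprod ml (wc ++ wb) := eq_of_chkEqW (by decide +kernel)
  have e3 : wprod ml (wa ++ wb) = wprod ml (wb ++ (wa ++ wc)) := eq_of_chkEqW (by decide +kernel)
  simp only [wprod_rep, wprod_append] at r1 r2 r3 e1 e2 e3
  rw [← mul_assoc] at e3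
  exact ⟨r2, r1, r3, e2, e1, e3, ne_one_of (b := 29) (by norm_num) (by decide +kernel)⟩

theorem kc : chkC 0 (wc) (wci) [1] [6] 2 = true := by decide +kernel

theorem kb : chkC 0 (wa) (wai) [2, 5] [5, 2] 4 = true := by decide +kernel

theorem k0 : chkC 0 (wb ++ rep 0 wa) (rep 0 wai ++ wbi) [2, 7] [3, 2] 6 = true := by decide +kernel

theorem k1 : chkC 0 (wb ++ rep 1 wa) (rep 1 wai ++ wbi) [2, 1] [6, 2] 6 = true := by decide +kernel

theorem k2 : chkC 0 (wb ++ rep 2 wa) (rep 2 wai ++ wbi) [2, 3] [7, 2] 2 = true := by decide +kernel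

theorem k3 : chkC 0 (wb ++ rep 3 wa) (rep 3 wai ++ wbi) [4] [8] 6 = true := by decide +kernel

theorem k4 : chkC 0 (wb ++ rep 4 wa) (rep 4 wai ++ wbi) [1, 3] [7, 6] 7 = true := by decide +kernel

theorem crow_five : CRow 5 RuOrder.H := by
  have hf : Finite RuOrder.H := Nat.finite_of_card_ne_zero (by rw [card_H]; norm_num)
  intro C hC
  have e : ∀ j : ℕ, wprod ml wb * wprod ml wa ^ j = wprod ml (wb ++ rep j wa) := fun j => by
    rw [wprod_append, wprod_rep]
  have h0 := not_mem_of_chk hC.toCC k0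
  have h1 := not_mem_of_chk hC.toCC k1
  have h2 := not_mem_of_chk hC.toCC k2
  have h3 := not_mem_of_chk hC.toCC k3
  have h4 := not_mem_of_chk hC.toCC k4
  rw [← e] at h0 h1 h2 h3 h4
  refine heis_five rel hC (by rw [card_H]; norm_num) (not_mem_of_chk hC.toCC kc) (not_mem_of_chk hC.toCC kb) ?_
  intro j hj
  have hj' : j = 0 ∨ j = 1 ∨ j = 2 ∨ j = 3 ∨ j = 4 := by omega
  rcases hj' with rfl | rfl | rfl | rfl | rfl
  exacts [h0, h1, h2, h3, h4]

/-! ### The primes 3 and 13 -/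

theorem not_comm_of_card {K : Type*} [Group K] [IsSimpleGroup K] [Finite K] (h : ¬ (Nat.card K).Prime) :
    ¬ IsMulCommutative K := by
  intro hc
  let inst : CommGroup K := { (inferInstance : Group K) with mul_comm := hc.is_comm.comm }
  exact h (IsSimpleGroup.prime_card (α := K))

theorem not_prime_T : ¬ Nat.Prime 17971200 := by norm_num

theorem not_prime_Ru : ¬ Nat.Prime 145926144000 := by norm_num

theorem pCore_T (p : ℕ) [hp : Fact p.Prime] : pCore p RuTits.T = ⊥ := by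
  have hsT : IsSimpleGroup RuTits.T := RuTits.isSimpleGroup_T
  have hf : Finite RuTits.T := Nat.finite_of_card_ne_zero (by rw [RuTits.card_T]; norm_num)
  exact pCore_eq_bot_of_simple (not_comm_of_card (by rw [RuTits.card_T]; exact not_prime_T)) p

theorem crow_tits {p : ℕ} [hp : Fact p.Prime] (hi : ¬ p ∣ 8120) : CRow p RuOrder.H := by
  have hf : Finite RuOrder.H := Nat.finite_of_card_ne_zero (by rw [card_H]; norm_num)
  have hle : RuTits.T ≤ RuOrder.H := RuTits.T_le.trans (by intro x hx; exact hx.1)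
  let M : Subgroup RuOrder.H := RuTits.T.subgroupOf RuOrder.H
  have hcM : Nat.card M = 17971200 := by
    rw [Nat.card_congr (Subgroup.subgroupOfEquivOfLe hle).toEquiv]
    exact RuTits.card_T
  have hidx : M.index = 8120 := by
    have h := M.card_mul_index
    rw [hcM, card_H] at h
    omega
  intro C hC
  refine hC.eq_one_of_index (H := M) ?_ (by rw [hidx]; exact hi) ?_
  · intro h
    rw [h, Subgroup.index_top] at hidx
    omega
  · rw [← map_equiv_pCore (Subgroup.subgroupOfEquivOfLe hle).symm p, pCore_T, Subgroup.map_bot]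

/-! ### The primes 2, 7 and 29 -/

section Iso

variable {G : Type*} [Group G] [Finite G] (h : Spor.IsoRu G)
include h

omit [Finite G] in
theorem card_eq : Nat.card G = 145926144000 := by
  obtain ⟨e⟩ := h
  rw [Nat.card_congr (e.trans Cfsg.Agent.RuLat.Main.equiv).toEquiv, card_H]

omit [Finite G] in
theorem simple : IsSimpleGroup G := by
  obtain ⟨e⟩ := h
  have hs : IsSimpleGroup RuOrder.H := Cfsg.Agent.SporadicB.RuSimple.isSimpleGroup_H
  have hn : Nontrivial G := (e.trans Cfsg.Agent.RuLat.Main.equiv).toEquiv.nontrivial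
  exact IsSimpleGroup.isSimpleGroup_of_surjective (e.trans Cfsg.Agent.RuLat.Main.equiv).symm.toMonoidHom
    (e.trans Cfsg.Agent.RuLat.Main.equiv).symm.surjective

theorem pCore_bot (p : ℕ) [hp : Fact p.Prime] : pCore p G = ⊥ := by
  have hs := simple h
  exact pCore_eq_bot_of_simple (not_comm_of_card (by rw [card_eq h]; exact not_prime_Ru)) p

omit [Finite G] in
theorem ne_top_of_card {H : Subgroup G} {n : ℕ} (hH : Nat.card H = n) (hn : n < 145926144000) : H ≠ ⊤ := by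
  intro ht
  rw [ht, Nat.card_congr Subgroup.topEquiv.toEquiv, card_eq h] at hH
  omega

/-- **p = 2** -/
theorem crow_two : CRow 2 G := by
  have hp : Fact (Nat.Prime 2) := ⟨Nat.prime_two⟩
  have hO := pCore_bot h 2
  intro C hC c hc
  by_contra hc1
  obtain ⟨P⟩ : Nonempty (Sylow 2 G) := inferInstance
  obtain ⟨Z, z, -, -, -, hNZ, hCz, hTN, hTC, hover⟩ := Cfsg.Agent.H5.Ru.Row.exists_overgroups h P
  have h1 := hC.sylow_le_M hO hc hc1 P (ne_top_of_card h hNZ (by norm_num)) hTN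
  have h2 := hC.sylow_le_M hO hc hc1 P (ne_top_of_card h hCz (by norm_num)) hTC
  have h3 : pCore 2 (M C (P : Subgroup G)) ≠ ⊥ := by
    intro h4
    obtain ⟨d, hd, hd1, hdP⟩ := hC.exists_mem_sylow hc hc1 P
    exact hd1 (hC.eq_one_of_mem (hC.M_ne_top' hO hc hc1 P) h4 hd (W_le_M (mem_W hd hdP)))
  rcases hover _ (hC.P_le_M _) h3 with h4 | h4
  · have h5 := Subgroup.card_dvd_of_le (h2.trans h4)
    rw [hNZ, hCz] at h5
    norm_num at h5
  · have h5 := Subgroup.card_dvd_of_le (h1.trans h4)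
    rw [hNZ, hCz] at h5
    norm_num at h5

/-- **p = 7** -/
theorem crow_seven : CRow 7 G := by
  have hp : Fact (Nat.Prime 7) := ⟨by norm_num⟩
  intro C hC
  obtain ⟨P⟩ : Nonempty (Sylow 2 G) := inferInstance
  obtain ⟨Z, z, hZ8, hzZ, hz1, hNZ, hCz, hTN, hTC, -⟩ := Cfsg.Agent.H5.Ru.Row.exists_overgroups h P
  refine hC.eq_one_of_index (ne_top_of_card h hNZ (by norm_num)) ?_ ?_
  · intro h7
    have h1 := (normalizer (Z : Set G)).card_mul_index
    rw [hNZ, card_eq h] at h1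
    omega
  · rw [eq_bot_iff]
    intro x hx
    rw [mem_bot]
    obtain ⟨k, hk⟩ := (IsPGroup.iff_orderOf.1 (pCore_isPGroup 7)) (⟨x, hx⟩ : pCore 7 ↥(normalizer (Z : Set G)))
    rw [Subgroup.orderOf_mk] at hk
    have hzN : z ∈ normalizer (Z : Set G) := le_normalizer hzZ
    -- `x` centralises `z`
    have h1 : ((x : G) * z * (x : G)⁻¹ * z⁻¹) = 1 := by
      have h2 : (x : G) * z * (x : G)⁻¹ * z⁻¹ ∈ Z :=
        mul_mem ((mem_normalizer_iff.1 x.2 z).1 hzZ) (inv_mem hzZ)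
      have h3 : x * (⟨z, hzN⟩ * x⁻¹ * ⟨z, hzN⟩⁻¹) ∈ pCore 7 ↥(normalizer (Z : Set G)) :=
        mul_mem hx ((inferInstance : (pCore 7 ↥(normalizer (Z : Set G))).Normal).conj_mem _ (inv_mem hx) _)
      obtain ⟨l, hl⟩ := (IsPGroup.iff_orderOf.1 (pCore_isPGroup 7)) (⟨_, h3⟩ : pCore 7 ↥(normalizer (Z : Set G)))
      rw [Subgroup.orderOf_mk, ← Subgroup.orderOf_coe] at hl
      have e : ((x * (⟨z, hzN⟩ * x⁻¹ * ⟨z, hzN⟩⁻¹) : ↥(normalizer (Z : Set G))) : G) = (x : G) * z * (x : G)⁻¹ * z⁻¹ := by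
        show (x : G) * (z * (x : G)⁻¹ * z⁻¹) = _
        group
      rw [e] at hl
      have h4 : orderOf ((x : G) * z * (x : G)⁻¹ * z⁻¹) ∣ Nat.card Z := Subgroup.orderOf_dvd_natCard Z h2
      rw [hl, hZ8] at h4
      rw [← orderOf_eq_one_iff, hl]
      exact Nat.Coprime.eq_one_of_dvd (Nat.Coprime.pow_left l (by norm_num)) h4
    have h2 : (x : G) ∈ centralizer ({z} : Set G) := by
      rw [mem_centralizer_singleton_iff]
      rw [mul_inv_eq_one, mul_inv_eq_iff_eq_mul] at h1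
      exact h1
    have h3 := Subgroup.orderOf_dvd_natCard _ h2
    rw [hCz, Subgroup.orderOf_coe, hk] at h3
    rw [← orderOf_eq_one_iff, hk]
    exact Nat.Coprime.eq_one_of_dvd (Nat.Coprime.pow_left k (by norm_num)) h3

/-- two classes of involutions -/
theorem exists_two_classes : ∃ s t : G, s * s = 1 ∧ s ≠ 1 ∧ t * t = 1 ∧ t ≠ 1 ∧ ¬ IsConj s t := by
  obtain ⟨P⟩ : Nonempty (Sylow 2 G) := inferInstance
  obtain ⟨C, -⟩ := Cfsg.Agent.KFacts.Ru.exists_core h
  obtain ⟨Z, z, c⟩ := Cfsg.Agent.H5.Ru.Row.exists_ctx_of_core C P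
  obtain ⟨d, hd, -⟩ := Cfsg.Agent.Ru127.Count.exists_D c.L c.hZ
  refine ⟨d, z, c.L.D_sq d hd, c.L.D_ne d hd, Cfsg.Agent.Ru127.Basic.sq_mem c.L c.hZ c.hz, c.hz1, fun hdz => ?_⟩
  obtain ⟨g, hg⟩ := isConj_iff.1 hdz
  exact Cfsg.Agent.Ru127.Basic.notD_mem c.L c.hZ c.hz (hg ▸ c.L.D_conj d hd g)

/-- **p = 29** -/
theorem crow_29 : CRow 29 G := by
  have hp : Fact (Nat.Prime 29) := ⟨by norm_num⟩
  have h2 : Fact (Nat.Prime 2) := ⟨Nat.prime_two⟩
  have hO := pCore_bot h 29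
  have hs := simple h
  intro C hC c hc
  by_contra hc1
  obtain ⟨s, t, hs2, hs1, ht2, ht1, hst⟩ := exists_two_classes h
  apply hst
  refine hC.isConj_of_cyclic hs hO (by rw [card_eq h]; norm_num) hc hc1 (fun d hd hd1 => ?_) hs2 hs1 ht2 ht1
  rw [← Nat.not_even_iff_odd, even_iff_two_dvd]
  intro h3
  have hd29 : orderOf d = 29 := by
    obtain ⟨k, hk⟩ := hC.pel d hd
    have h4 := orderOf_dvd_natCard d
    rw [hk, card_eq h] at h4
    have h5 : k < 2 := by
      by_contra h6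
      have h7 := (pow_dvd_pow 29 (by omega : 2 ≤ k)).trans h4
      norm_num at h7
    have h6 : k ≠ 0 := by
      rintro rfl
      rw [pow_zero, orderOf_eq_one_iff] at hk
      exact hd1 hk
    have h7 : k = 1 := by omega
    rw [hk, h7, pow_one]
  obtain ⟨y, hy⟩ := exists_prime_orderOf_dvd_card' 2 h3
  exact Cfsg.Agent.H393.Iso.na_ru h d y hd29 (by rw [Subgroup.orderOf_coe, hy])
    (mem_centralizer_singleton_iff.1 y.2).symm

/-- **The row of `Ru`.** -/
theorem crow_ru (p : ℕ) [hp : Fact p.Prime] : CRow p G := by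
  have h0 : Spor.IsoRu G := h
  obtain ⟨e⟩ := h
  by_cases hd : p ∣ Nat.card G
  · rw [card_eq h0] at hd
    have hd' : p ∣ 2 * 3 * 5 * 7 * 13 * 29 := by
      have h1 : p ∣ (2 * 3 * 5 * 7 * 13 * 29) ^ 14 := hd.trans (by norm_num)
      exact hp.out.dvd_of_dvd_pow h1
    rcases (Nat.Prime.dvd_mul hp.out).1 hd' with h1 | h1
    swap
    · obtain rfl := (Nat.prime_dvd_prime_iff_eq hp.out (by norm_num)).1 h1
      exact crow_29 h0
    rcases (Nat.Prime.dvd_mul hp.out).1 h1 with h1 | h1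
    swap
    · obtain rfl := (Nat.prime_dvd_prime_iff_eq hp.out (by norm_num)).1 h1
      exact (crow_tits (by norm_num)).of_equiv (e.trans Cfsg.Agent.RuLat.Main.equiv)
    rcases (Nat.Prime.dvd_mul hp.out).1 h1 with h1 | h1
    swap
    · obtain rfl := (Nat.prime_dvd_prime_iff_eq hp.out (by norm_num)).1 h1
      exact crow_seven h0
    rcases (Nat.Prime.dvd_mul hp.out).1 h1 with h1 | h1
    swap
    · obtain rfl := (Nat.prime_dvd_prime_iff_eq hp.out (by norm_num)).1 h1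
      exact crow_five.of_equiv (e.trans Cfsg.Agent.RuLat.Main.equiv)
    rcases (Nat.Prime.dvd_mul hp.out).1 h1 with h1 | h1
    · obtain rfl := (Nat.prime_dvd_prime_iff_eq hp.out (by norm_num)).1 h1
      exact crow_two h0
    · obtain rfl := (Nat.prime_dvd_prime_iff_eq hp.out (by norm_num)).1 h1
      exact (crow_tits (by norm_num)).of_equiv (e.trans Cfsg.Agent.RuLat.Main.equiv)
  · intro C hC c hc
    obtain ⟨k, hk⟩ := hC.pel c hc
    rcases Nat.eq_zero_or_pos k with rfl | hk0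
    · rwa [pow_zero, orderOf_eq_one_iff] at hk
    · exact absurd ((dvd_pow_self p hk0.ne').trans (hk ▸ orderOf_dvd_natCard c)) hd

end Iso

end Cfsg.Agent.H174.CC.Ru
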