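import Cfsg.Agent.H603.CC.Defs

/-!
# S4793, CHARF: the characters of `FixS B (perp B E)` and hermitian forms on `E` (task 3827)
-/

set_option autoImplicit false
set_option linter.style.haveILetI false
set_option linter.unusedSectionVars false
set_option linter.unusedSimpArgs false

open Cfsg
open scoped ComplexConjugate

namespace Cfsg.Agent.H174.CC

open Module Cfsg.Agent.H603.CC Cfsg.Agent.ClassicalGeometry.HermWitt

universe u v

section AddChar

variable {F : Type u} [Field F] [Finite F]

/-- A nontrivial additive character, trivial on the elements `x + σ x`. -/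
theorem exists_addChar (σ : F →+* F) (hσ : σ ≠ RingHom.id F) (hσ2 : ∀ a : F, σ (σ a) = a) :
    ∃ ψ : AddChar F ℂ, ψ ≠ 1 ∧ ∀ x, ψ (x + σ x) = 1 := by
  let T : AddSubgroup F := (AddMonoidHom.id F + (σ : F →+ F)).range
  have hT : ∀ x, x + σ x ∈ T := fun x => ⟨x, rfl⟩
  have hfix : ∀ y ∈ T, σ y = y := by
    rintro _ ⟨x, rfl⟩
    show σ (x + σ x) = x + σ x
    rw [map_add, hσ2, add_comm]
  obtain ⟨a, ha⟩ : ∃ a, σ a ≠ a := by
    by_contra h
    push Not at h
    exact hσ (RingHom.ext h)
  have ha' : (QuotientAddGroup.mk a : F ⧸ T) ≠ 0 := by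
    intro h
    exact ha (hfix a ((QuotientAddGroup.eq_zero_iff a).1 h))
  haveI : Finite (F ⧸ T) := inferInstance
  obtain ⟨ψ', hψ'⟩ := AddChar.exists_apply_ne_zero.2 ha'
  refine ⟨ψ'.compAddMonoidHom (QuotientAddGroup.mk' T), ?_, fun x => ?_⟩
  · intro h
    apply hψ'
    have := congrArg (fun f : AddChar F ℂ => f a) h
    simpa using this
  · have h1 : (QuotientAddGroup.mk' T (x + σ x)) = 0 := (QuotientAddGroup.eq_zero_iff _).2 (hT x)
    rw [AddChar.compAddMonoidHom_apply, h1, AddChar.map_zero_eq_one]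

variable {E : Type v} [AddCommGroup E] [Module F E] [Finite E]

/-- linear functionals and additive characters -/
theorem func_unique {ψ : AddChar F ℂ} (hψ : ψ ≠ 1) {f g : E →ₗ[F] F} (h : ∀ x, ψ (f x) = ψ (g x)) : f = g := by
  by_contra hne
  apply hψ
  obtain ⟨x, hx⟩ : ∃ x, f x ≠ g x := by
    by_contra hcon
    push Not at hcon
    exact hne (LinearMap.ext hcon)
  have hd : f x - g x ≠ 0 := sub_ne_zero.2 hx
  ext c
  have h1 := h ((c * (f x - g x)⁻¹) • x)
  rw [LinearMap.map_smul f, LinearMap.map_smul g, smul_eq_mul, smul_eq_mul] at h1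
  have h2 : ψ (c * (f x - g x)⁻¹ * f x - c * (f x - g x)⁻¹ * g x) = 1 := by
    rw [AddChar.map_sub_eq_div, h1, div_self (ψ.val_isUnit _).ne_zero]
  rw [← mul_sub, inv_mul_cancel_right₀ hd] at h2
  rw [h2]
  rfl

theorem func_exists {ψ : AddChar F ℂ} (hψ : ψ ≠ 1) (χ : AddChar E ℂ) : ∃ f : E →ₗ[F] F, ∀ x, χ x = ψ (f x) := by
  classical
  let Φ : (E →ₗ[F] F) → AddChar E ℂ := fun f => ψ.compAddMonoidHom f.toAddMonoidHom
  have hinj : Function.Injective Φ := fun f g h => func_unique hψ fun x =>
    congrArg (fun c : AddChar E ℂ => c x) h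
  haveI : FiniteDimensional F E := inferInstance
  haveI : Finite (E →ₗ[F] F) := Finite.of_injective (fun f => (f : E → F)) DFunLike.coe_injective
  haveI := Fintype.ofFinite E
  haveI := Fintype.ofFinite (E →ₗ[F] F)
  have hcard : Fintype.card (AddChar E ℂ) = Fintype.card (E →ₗ[F] F) := by
    rw [AddChar.card_eq, ← Nat.card_eq_fintype_card, ← Nat.card_eq_fintype_card,
      Module.natCard_eq_pow_finrank (K := F) (V := E), Module.natCard_eq_pow_finrank (K := F) (V := E →ₗ[F] F),
      Subspace.dual_finrank_eq]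
  have hbij := (Fintype.bijective_iff_injective_and_card Φ).2 ⟨hinj, hcard.symm⟩
  obtain ⟨f, hf⟩ := hbij.2 χ
  exact ⟨f, fun x => by rw [← hf]; rfl⟩

end AddChar

section ZZ

variable {F : Type u} {V : Type v} [Field F] [AddCommGroup V] [Module F V] {q : ℕ} {σ : F →+* F}
  {B : V →ₛₗ[σ] V →ₗ[F] F} [Finite F] [Finite V]

/-- the formula for the elements `z(e, e')` -/
def IsZ (B : V →ₛₗ[σ] V →ₗ[F] F) (z : UU B) (e e' : V) : Prop := ∀ x, ac B z x = x + B e x • e' - B e' x • e

theorem exists_z (h : HS q σ B) {E : Submodule F V} (hE : IsTS B E) {e e' : V} (he : e ∈ E) (he' : e' ∈ E) :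
    ∃ z : FixS B (perp B E), IsZ B (z : UU B) e e' := by
  have h00 : B e e = 0 := hE e he e he
  have h01 : B e e' = 0 := hE e he e' he'
  have h10 : B e' e = 0 := hE e' he' e he
  have h11 : B e' e' = 0 := hE e' he' e' he'
  let N : V →ₗ[F] V := (B e).smulRight e' - (B e').smulRight e
  have hN : ∀ x, N x = B e x • e' - B e' x • e := fun x => rfl
  have hNN : ∀ x, N (N x) = 0 := by
    intro x
    rw [hN (N x), hN x, map_sub, map_sub, map_smul, map_smul, map_smul, map_smul, h00, h01, h10, h11]
    simp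
  let g : V ≃ₗ[F] V := LinearEquiv.ofLinearMap (LinearMap.id + N) (LinearMap.id - N)
    (by
      ext x
      show (x - N x) + N (x - N x) = x
      rw [map_sub, hNN]
      abel)
    (by
      ext x
      show (x + N x) - N (x + N x) = x
      rw [map_add, hNN]
      abel)
  have hg : ∀ x, g x = x + N x := fun x => rfl
  have hB : ∀ x y, B (g x) (g y) = B x y := by
    intro x y
    rw [hg, hg, hN, hN]
    simp only [map_add, map_sub, LinearMap.add_apply, LinearMap.sub_apply, map_smul, LinearMap.map_smulₛₗ,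
      LinearMap.smul_apply, smul_eq_mul, h00, h01, h10, h11, h.sy]
    ring
  refine ⟨⟨mkU g hB, fun w hw => ?_⟩, fun x => ?_⟩
  · rw [ac_mkU, hg, hN, hw e he, hw e' he']
    simp
  · show g x = _
    rw [hg, hN, add_sub_assoc]

theorem exists_zz (h : HS q σ B) {E : Submodule F V} (hE : IsTS B E) {e e' : V} (he : e ∈ E) (he' : e' ∈ E) :
    ∃ z ∈ FixS B (perp B E), ∀ x, ac B z x = x + B e x • e' - B e' x • e := by
  obtain ⟨z, hz⟩ := exists_z h hE he he'
  exact ⟨z, z.2, hz⟩

theorem z_ext {z z' : UU B} {e e' : V} (h : IsZ B z e e') (h' : IsZ B z' e e') : z = z' :=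
  ac_ext fun x => by rw [h x, h' x]

variable {E : Submodule F V}

theorem z_mul_right (hE : IsTS B E) {z z' : UU B} {e e₁ e₂ : V} (he : e ∈ E) (h1 : e₁ ∈ E) (h2 : e₂ ∈ E)
    (h : IsZ B z e e₁) (h' : IsZ B z' e e₂) : IsZ B (z * z') e (e₁ + e₂) := by
  intro x
  rw [ac_mul, h' x, h]
  simp only [map_add, map_sub, map_smul, LinearMap.add_apply, hE e he e he, hE e he e₂ h2, hE e₁ h1 e he,
    hE e₁ h1 e₂ h2, smul_zero, smul_eq_mul, mul_zero, add_zero, sub_zero, zero_smul, smul_add, add_smul]
  abel

theorem z_mul_left (hE : IsTS B E) {z z' : UU B} {e e₁ e₂ : V} (he : e ∈ E) (h1 : e₁ ∈ E) (h2 : e₂ ∈ E)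
    (h : IsZ B z e₁ e) (h' : IsZ B z' e₂ e) : IsZ B (z * z') (e₁ + e₂) e := by
  intro x
  rw [ac_mul, h' x, h]
  simp only [map_add, map_sub, map_smul, LinearMap.add_apply, hE e he e he, hE e he e₂ h2, hE e₁ h1 e he,
    hE e₁ h1 e₂ h2, smul_zero, smul_eq_mul, mul_zero, add_zero, sub_zero, zero_smul, smul_add, add_smul]
  abel

theorem z_inv {z z' : UU B} {e e' : V} (hE : IsTS B E) (he : e ∈ E) (he' : e' ∈ E)
    (h : IsZ B z e e') (h' : IsZ B z' e' e) : z' = z⁻¹ := by
  rw [eq_inv_iff_mul_eq_one]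
  refine ac_ext fun x => ?_
  rw [ac_mul, h x, h', ac_one]
  simp only [map_add, map_sub, map_smul, hE e he e he, hE e he e' he', hE e' he' e he,
    hE e' he' e' he', smul_zero, smul_eq_mul, mul_zero, add_zero, sub_zero, zero_smul]
  abel

theorem z_smul {z : UU B} {e e' : V} (hσ2 : ∀ a : F, σ (σ a) = a) (c : F) (h : IsZ B z (c • e) e') :
    IsZ B z e (σ c • e') := by
  intro x
  rw [h x]
  simp only [LinearMap.map_smulₛₗ, LinearMap.smul_apply, smul_eq_mul, hσ2, smul_smul]
  rw [mul_comm (σ c), mul_comm c]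

/-- The double orthogonal complement. -/
theorem perp_perp_le (h : HS q σ B) (W : Submodule F V) : perp B (perp B W) ≤ W := by
  intro v hv
  rw [← Subspace.forall_mem_dualAnnihilator_apply_eq_zero_iff]
  intro φ hφ
  obtain ⟨w, hw⟩ := exists_represent σ B h.sep LinearMap.id Function.injective_id φ
  have h1 : w ∈ perp B W := fun x hx => h.zero_symm (by
    rw [show B w x = φ x from hw x]
    exact (Submodule.mem_dualAnnihilator φ).1 hφ x hx)
  have h2 := hv w h1
  rwa [show B w v = φ v from hw v] at h2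

/-- `z(e, c e)` -/
theorem exists_z_self (h : HS q σ B) {e : V} (hE : IsTS B E) (he : e ∈ E) {b : F} (hb : b + σ b = 0) :
    ∃ (z : FixS B (perp B E)) (e' : V), e' ∈ E ∧ IsZ B (z : UU B) e e' ∧
      ∀ x, ac B (z : UU B) x = x + (b * B e x) • e := by
  obtain ⟨t, ht⟩ := trace_surj σ h.ne_id h.inv 1 (map_one σ)
  have hc : b * t - σ (b * t) = b := by
    rw [map_mul]
    have : σ b = - b := by linear_combination hb
    rw [this]
    linear_combination b * ht
  obtain ⟨z, hz⟩ := exists_z h hE he (E.smul_mem (b * t) he)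
  refine ⟨z, _, E.smul_mem (b * t) he, hz, fun x => ?_⟩
  rw [hz x, LinearMap.map_smulₛₗ, LinearMap.smul_apply, smul_eq_mul, smul_smul, add_sub_assoc, ← sub_smul]
  congr 2
  rw [mul_comm (B e x), ← sub_mul, hc]

theorem FixS_le_closure (h : HS q σ B) {E : Submodule F V} (hE : IsTS B E) {N : Subgroup (UU B)}
    (hN : ∀ e ∈ E, ∀ e' ∈ E, ∀ z : UU B, (∀ x, ac B z x = x + B e x • e' - B e' x • e) → z ∈ N) :
    FixS B (perp B E) ≤ N := by
  have key : ∀ n : ℕ, ∀ g ∈ FixS B (perp B E), finrank F V ≤ finrank F (fx g) + n → g ∈ N := by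
    intro n
    induction n with
    | zero =>
      intro g _ hn
      have h1 : fx g = ⊤ := Submodule.eq_top_of_finrank_eq (le_antisymm (Submodule.finrank_le _) hn)
      have h2 : g = 1 := ac_ext fun x => by
        have : x ∈ fx g := by rw [h1]; exact Submodule.mem_top
        exact this
      rw [h2]
      exact one_mem N
    | succ n ih =>
      intro g hg hn
      have hmem : ∀ x, ac B g x - x ∈ E := by
        intro x
        apply perp_perp_le h
        intro w hw
        rw [map_sub]
        nth_rewrite 1 [← hg w hw]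
        rw [form_ac, sub_self]
      have hEp : ∀ y ∈ E, ac B g y = y := fun y hy => hg y fun w hw => hE w hw y hy
      by_cases hall : ∀ x, B (ac B g x - x) x = 0
      · -- `g = 1`
        have hadd : ∀ x y, B (ac B g x - x) y + B (ac B g y - y) x = 0 := by
          intro x y
          have h1 := hall (x + y)
          rw [ac_add] at h1
          have h2 : ac B g x + ac B g y - (x + y) = (ac B g x - x) + (ac B g y - y) := by abel
          rw [h2] at h1
          simp only [map_add, LinearMap.add_apply, hall x, hall y, zero_add, add_zero] at h1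
          linear_combination h1
        obtain ⟨a, ha⟩ : ∃ a, σ a ≠ a := by
          by_contra hcon
          push Not at hcon
          exact h.ne_id (RingHom.ext hcon)
        have hzero : ∀ x y, B (ac B g x - x) y = 0 := by
          intro x y
          have h1 := hadd x y
          have h2 := hadd (a • x) y
          rw [ac_smul, ← smul_sub, LinearMap.map_smulₛₗ, LinearMap.smul_apply, map_smul, smul_eq_mul,
            smul_eq_mul] at h2
          have h3 : (σ a - a) * B (ac B g x - x) y = 0 := by linear_combination h2 - a * h1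
          exact (mul_eq_zero.1 h3).resolve_left (sub_ne_zero.2 ha)
        have h2 : g = 1 := ac_ext fun x => by
          rw [ac_one]
          exact sub_eq_zero.1 (h.ext (hzero x))
        rw [h2]
        exact one_mem N
      · push Not at hall
        obtain ⟨x, hx⟩ := hall
        set e := ac B g x - x with he
        have heE : e ∈ E := hmem x
        have hgx : ac B g x = x + e := by rw [he]; abel
        -- `B e x` is skew
        have hskew : B e x + σ (B e x) = 0 := by
          rw [h.sy]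
          have h1 : B (ac B g x) (ac B g x) = B x x := form_ac g x x
          rw [hgx] at h1
          simp only [map_add, LinearMap.add_apply, hE e heE e heE] at h1
          linear_combination h1
        have hb : (B e x)⁻¹ + σ (B e x)⁻¹ = 0 := by
          have h1 : σ (B e x) = - B e x := by linear_combination hskew
          rw [map_inv₀, h1, inv_neg]
          ring
        obtain ⟨z, e', he', hz, hz'⟩ := exists_z_self h hE heE hb
        have hzN : (z : UU B) ∈ N := hN e heE e' he' _ hz
        have hzx : ac B (z : UU B) x = ac B g x := by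
          rw [hz', inv_mul_cancel₀ hx, one_smul, hgx]
        have hfix : fx g ≤ fx ((z : UU B)⁻¹ * g) := by
          intro y hy
          have hy' : ac B g y = y := hy
          show ac B ((z : UU B)⁻¹ * g) y = y
          have h1 : ac B (z : UU B) y = y := by
            rw [hz']
            have h2 : B e y = 0 := by
              rw [he, map_sub, LinearMap.sub_apply]
              nth_rewrite 1 [← hy']
              rw [form_ac, sub_self]
            rw [h2, mul_zero, zero_smul, add_zero]
          rw [ac_mul, hy']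
          nth_rewrite 1 [← h1]
          rw [ac_inv_ac]
        have hlt : fx g < fx ((z : UU B)⁻¹ * g) := by
          refine lt_of_le_of_ne hfix fun heq => hx ?_
          have h1 : x ∈ fx ((z : UU B)⁻¹ * g) := by
            show ac B ((z : UU B)⁻¹ * g) x = x
            rw [ac_mul, ← hzx, ac_inv_ac]
          rw [← heq] at h1
          have h2 : ac B g x = x := h1
          rw [he, h2, sub_self, map_zero, LinearMap.zero_apply]
        have hlt' := Submodule.finrank_lt_finrank_of_lt hlt
        have h3 := ih ((z : UU B)⁻¹ * g) ((FixS B (perp B E)).mul_mem ((FixS B (perp B E)).inv_mem z.2) hg) (by omega)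
        have h4 := N.mul_mem hzN h3
        rwa [mul_inv_cancel_left] at h4
  exact fun g hg => key (finrank F V) g hg (Nat.le_add_left _ _)

end ZZ

theorem sigma_inv {F : Type u} [Field F] [Finite F] {q : ℕ} {σ : F →+* F} (hF : Nat.card F = q ^ 2)
    (hσ : ∀ a, σ a = a ^ q) (a : F) : σ (σ a) = a := by
  rw [hσ, hσ, ← pow_mul, ← sq, ← hF]
  have := Fintype.ofFinite F
  rw [Nat.card_eq_fintype_card, FiniteField.pow_card]

theorem sigma_ne_id {F : Type u} [Field F] [Finite F] {q : ℕ} {σ : F →+* F} (h2 : 2 ≤ q) (hF : Nat.card F = q ^ 2)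
    (hσ : ∀ a, σ a = a ^ q) : σ ≠ RingHom.id F := by
  intro h0
  have := Fintype.ofFinite F
  obtain ⟨g, hg⟩ := IsCyclic.exists_generator (α := Fˣ)
  have h1 : g ^ (q - 1) = 1 := by
    have h2' : g ^ q = g := by
      ext
      rw [Units.val_pow_eq_pow_val, ← hσ, h0, RingHom.id_apply]
    have h3 : g ^ (q - 1) * g = g := by
      rw [← pow_succ]
      have : q - 1 + 1 = q := by omega
      rw [this, h2']
    exact mul_eq_right.mp h3
  have h4 : orderOf g = Nat.card Fˣ := orderOf_eq_card_of_forall_mem_zpowers hg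
  have h5 : Nat.card Fˣ = q ^ 2 - 1 := by
    rw [Nat.card_units, hF]
  have h6 : orderOf g ≤ q - 1 := orderOf_le_of_pow_eq_one (by omega) h1
  rw [h4, h5] at h6
  have h7 : 2 * q ≤ q ^ 2 := by rw [sq]; exact Nat.mul_le_mul_right q h2
  omega

/-- **The characters of `FixS B (perp B E)`.** -/
theorem exists_psi (F : Type u) [Field F] [Finite F] (q : ℕ) (σ : F →+* F) (h2 : 2 ≤ q)
    (hF : Nat.card F = q ^ 2) (hσ : ∀ a, σ a = a ^ q) :
    ∃ ψ : AddChar F ℂ, ψ ≠ 1 ∧ ∀ (V : Type v) [AddCommGroup V] [Module F V] [Finite V]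
      (B : V →ₛₗ[σ] V →ₗ[F] F), HS q σ B → ∀ E : Submodule F V, IsTS B E →
      ∀ l : FixS B (perp B E) →* ℂˣ, ∃ C : E →ₛₗ[σ] E →ₗ[F] F, C.IsSymm ∧ (C = 0 → l = 1) ∧
        ∀ (z : FixS B (perp B E)) (e e' : E),
          (∀ x, ac B (z : UU B) x = x + B (e : V) x • (e' : V) - B (e' : V) x • (e : V)) →
          ((l z : ℂˣ) : ℂ) = ψ (C e e') := by
  have hσ2 := sigma_inv hF hσ
  obtain ⟨ψ, hψ, hψσ⟩ := exists_addChar σ (sigma_ne_id h2 hF hσ) hσ2
  refine ⟨ψ, hψ, ?_⟩
  intro V _ _ _ B h E hE l
  -- the elements `z(e, e')`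
  have hz : ∀ e e' : E, ∃ z : FixS B (perp B E), IsZ B (z : UU B) (e : V) (e' : V) := fun e e' =>
    exists_z h hE e.2 e'.2
  choose z hz using hz
  have hzu : ∀ (y : FixS B (perp B E)) (e e' : E), IsZ B (y : UU B) (e : V) (e' : V) → y = z e e' := fun y e e' hy =>
    Subtype.ext (z_ext hy (hz e e'))
  have hr : ∀ e e₁ e₂ : E, z e (e₁ + e₂) = z e e₁ * z e e₂ := fun e e₁ e₂ =>
    (hzu _ _ _ (z_mul_right hE e.2 e₁.2 e₂.2 (hz e e₁) (hz e e₂))).symm
  have hl : ∀ e e₁ e₂ : E, z (e₁ + e₂) e = z e₁ e * z e₂ e := fun e e₁ e₂ =>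
    (hzu _ _ _ (z_mul_left hE e.2 e₁.2 e₂.2 (hz e₁ e) (hz e₂ e))).symm
  have hinv : ∀ e e' : E, z e' e = (z e e')⁻¹ := fun e e' =>
    Subtype.ext (z_inv hE e.2 e'.2 (hz e e') (hz e' e))
  have hsm : ∀ (c : F) (e e' : E), z (c • e) e' = z e (σ c • e') := fun c e e' =>
    hzu _ _ _ (z_smul hσ2 c (hz (c • e) e'))
  have hz0 : ∀ e : E, z e 0 = 1 := fun e => by
    have h1 := hr e 0 0
    rw [add_zero] at h1
    exact (mul_eq_left.1 h1.symm)
  -- the additive characters
  let L : E → AddChar E ℂ := fun e =>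
    { toFun := fun e' => ((l (z e e') : ℂˣ) : ℂ)
      map_zero_eq_one' := by rw [hz0, map_one, Units.val_one]
      map_add_eq_mul' := fun a b => by rw [hr, map_mul, Units.val_mul] }
  have hL : ∀ e e', L e e' = ((l (z e e') : ℂˣ) : ℂ) := fun e e' => rfl
  choose f hf using fun e => func_exists (E := E) hψ (L e)
  have hf' : ∀ e e', ψ (f e e') = ((l (z e e') : ℂˣ) : ℂ) := fun e e' => by rw [← hf, hL]
  let C : E →ₛₗ[σ] E →ₗ[F] F :=
    { toFun := f
      map_add' := fun a b => func_unique hψ fun x => by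
        rw [hf', hl, map_mul, Units.val_mul, LinearMap.add_apply, AddChar.map_add_eq_mul, hf', hf']
      map_smul' := fun c a => func_unique hψ fun x => by
        rw [hf', hsm, LinearMap.smul_apply, ← hf', LinearMap.map_smul] }
  have hC : ∀ e e', C e e' = f e e' := fun e e' => rfl
  refine ⟨C, ⟨fun x y => ?_⟩, fun hC0 => ?_, fun y e e' hy => ?_⟩
  · -- symmetry
    let g : E →ₗ[F] F :=
      { toFun := fun x => σ (C x y)
        map_add' := fun a b => by rw [map_add, LinearMap.add_apply, map_add]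
        map_smul' := fun c a => by
          rw [LinearMap.map_smulₛₗ, LinearMap.smul_apply, smul_eq_mul, map_mul, hσ2, RingHom.id_apply, smul_eq_mul] }
    have hg : g = C y := func_unique hψ fun x => by
      show ψ (σ (C x y)) = ψ (f y x)
      have h1 := hψσ (C x y)
      rw [AddChar.map_add_eq_mul] at h1
      have h3 : ψ (f x y) * ψ (f y x) = 1 := by
        rw [hf', hf', hinv x y, ← Units.val_mul, ← map_mul, mul_inv_cancel, map_one, Units.val_one]
      have h4 : ψ (f x y) ≠ 0 := (ψ.val_isUnit _).ne_zero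
      exact mul_left_cancel₀ h4 (h1.trans h3.symm)
    exact congrArg (fun k : E →ₗ[F] F => k x) hg
  · -- `C = 0`
    have h1 : ∀ e e' : E, l (z e e') = 1 := fun e e' => Units.ext (by
      rw [← hf', ← hC, hC0]
      simp)
    have hle := FixS_le_closure h hE (N := l.ker.map (FixS B (perp B E)).subtype) (by
      intro e he e' he' y hy
      obtain ⟨y', hy'⟩ := exists_z h hE he he'
      refine ⟨y', ?_, z_ext hy' hy⟩
      rw [SetLike.mem_coe, MonoidHom.mem_ker, hzu y' ⟨e, he⟩ ⟨e', he'⟩ hy']
      exact h1 _ _)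
    ext y
    obtain ⟨w, hw, hwy⟩ := hle y.2
    have h3 : w = y := Subtype.ext hwy
    rw [← h3, (MonoidHom.mem_ker).1 hw]
    rfl
  · rw [hC, hf', hzu y e e' hy]

end Cfsg.Agent.H174.CC
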